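import Mathlib

/-!
The order of a primitive permutation group: common definitions.
-/

set_option autoImplicit false

namespace Cfsg.Agent.P4
open Equiv

/-- The arithmetic consequences of being primitive, not doubly transitive, of degree `m` and
order `g`. -/
def UB (m g : ℕ) : Prop := g ≠ 0 ∧ ∀ p, p.Prime → ∃ s,
  padicValNat p g ≤ padicValNat p (m / p).factorial + s ∧ (s = 0 ∨ ∃ t, 1 ≤ t ∧ s * (t * p) ≤ m ∧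
    (p ≤ t ∨ m ≤ t * p + t * (t - 1)) ∧ m ≤ (2 * (t * p) + 1) ^ 2)

/-- pairs left after `j` steps of type B -/
def Qs (m b : ℕ) : ℕ → ℕ
  | 0 => m * (m - 1) / 2
  | j + 1 => Qs m b j * (b - 1 - j) / (m - j)

/-- pairs left after `j` steps of type C -/
def Cs (m D : ℕ) : ℕ → ℕ
  | 0 => m * (m - 1) / 2
  | j + 1 => Cs m D j * (m - D) / m

def IA (m b g : ℕ) : Prop := ∀ c e, (∀ w < b, w.factorial * 2 ^ w ≤ c ^ w) → m + 1 ≤ 2 ^ (e + 1) →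
  g * 2 ^ (m - 1) ≤ m ^ (e + 1) * c ^ (m - 1)

def IBB (m b r g : ℕ) : Prop := ∀ j, g ≤ (m * r.factorial) ^ j * 2 ^ Qs m b j

def IC (m b g : ℕ) : Prop := ∀ D j, D + b ≤ m → g ≤ m ^ (D + b + j) * 2 ^ Cs m D j

/-- The arithmetic consequences of being doubly transitive with imprimitive point stabiliser. -/
def IB (m g : ℕ) : Prop := ∃ b r, 2 ≤ b ∧ 2 ≤ r ∧ m = b * r + 1 ∧ IA m b g ∧ IBB m b r g ∧ IC m b g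

/-- A primitive group of degree `n` not containing the alternating group is not
`k + 1`-transitive (Jordan, Miller). -/
def Tr (n k : ℕ) : Prop := (∃ p, p.Prime ∧ n < 2 * p ∧ 3 ≤ k ∧ n = p + k) ∨
  ∃ p q, p.Prime ∧ 2 < p ∧ 1 ≤ q ∧ q < p ∧ q < k ∧ 4 ≤ k ∧ n = q * p + k

def tbl : List ℕ := [0, 0, 0, 0, 0, 0, 0, 0, 0, 4, 3, 4, 5, 6, 3, 4, 3, 4, 4, 4, 3, 4, 3, 4, 5, 4, 3, 4, 5, 6, 4, 5, 3, 4, 3, 4, 5, 4, 4, 5, 3, 4, 4, 4, 3, 4, 3, 4, 5, 5, 3, 4, 5, 6, 7, 4, 3, 4, 5, 6, 7, 4, 3, 4, 3, 4, 4, 5, 6, 7, 3, 4, 5, 4, 3, 4, 3, 4, 4, 5, 6, 5, 3, 4, 5, 6, 3, 4, 5, 6, 4, 4, 3, 4, 5, 6, 7, 4, 4, 5, 3, 4, 5, 6, 3, 4, 3, 4, 5, 6, 3, 4, 3, 4, 5, 4, 3, 4, 5, 6, 7, 5, 4, 5, 6, 7, 4, 4, 5, 5, 3, 4, 5, 4, 3, 4, 5, 6, 4, 5, 3, 4, 3, 4, 5, 4, 4, 5, 6, 7, 4, 5, 3, 4, 3, 4, 5, 6, 7, 8, 3, 4, 4, 4, 5, 6, 3, 4, 5, 5,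 3, 4, 5, 6, 7, 8, 3, 4, 5, 6, 7, 4, 3, 4, 3, 4, 5, 4, 5, 6, 7, 6, 7, 5, 3, 4, 3, 4, 4, 5, 3, 4, 3, 4, 5, 4, 4, 5, 6, 7, 4, 5, 6, 7, 3, 4, 5, 4, 4, 5, 6, 6, 4, 4, 5, 6, 3, 4, 5, 6, 3, 4, 3, 4, 5, 6, 3, 4, 5, 6, 7, 4, 3, 4, 3, 4, 5, 6, 7, 5, 6, 7, 8, 4, 3, 4, 5, 6, 4, 5, 3, 4, 5, 6, 7, 7, 3, 4, 5, 6, 7, 4, 3, 4, 3, 4, 5, 6, 4, 5, 3, 4, 4, 5, 3, 4, 3, 4, 5, 5, 6, 7, 8, 9, 10, 4, 3, 4, 5, 6, 7, 6, 4, 5, 6, 7, 4, 4, 5, 6, 3, 4, 5, 4, 3, 4, 3, 4, 4, 5, 3]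

/-- a bound for the degree of transitivity -/
def kb (n : ℕ) : ℕ :=
  if n ≤ 320 then tbl.getD n 0 else if n ≤ 3000 then 16 else if n ≤ 30000 then 60 else 3 * n.sqrt

/-- `2`-closed permutation groups -/
def Cl2 {Ω : Type*} (X : Subgroup (Perm Ω)) : Prop :=
  ∀ σ : Perm Ω, (∀ x y, ∃ g ∈ X, g x = σ x ∧ g y = σ y) → σ ∈ X

/-- Disjoint columns, any two of which are interchanged by an element fixing everything else. -/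
def Grid {Ω T : Type*} (X : Subgroup (Perm Ω)) (C : Finset (T → Ω)) : Prop :=
  (∀ c ∈ C, ∀ c' ∈ C, ∀ i j, c i = c' j → c = c' ∧ i = j) ∧ ∀ c ∈ C, ∀ c' ∈ C, ∃ s ∈ X,
    (∀ i, s (c i) = c' i ∧ s (c' i) = c i) ∧ ∀ z, (∀ i, z ≠ c i ∧ z ≠ c' i) → s z = z

/-- An invariant family of block systems: `B a x` is the block of `x` for the stabiliser of `a`. -/
structure Bl (G : Type*) {Ω : Type*} [Group G] [MulAction G Ω] [Fintype Ω] [DecidableEq Ω]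
    (B : Ω → Ω → Finset Ω) (b : ℕ) : Prop where
  eqv : ∀ (g : G) a x y, g • y ∈ B (g • a) (g • x) ↔ y ∈ B a x
  mem : ∀ a x, a ≠ x → x ∈ B a x
  nm : ∀ a x, a ∉ B a x
  tr : ∀ a x y, y ∈ B a x → B a y = B a x
  card : ∀ a x, a ≠ x → (B a x).card = b
  emp : ∀ a, B a a = ∅
  cov : ∀ x y, x ≠ y → (Finset.univ.filter fun a => y ∈ B a x).card = b - 1

end Cfsg.Agent.P4
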